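import Groth.Agent.H14Acyc.Comp
import Groth.Agent.H9Hens.StrictHens
import Mathlib.FieldTheory.IsSepClosed

/-!
# Strict henselizations along composites, and local acyclicity of composites
-/

set_option autoImplicit false
set_option linter.style.haveILetI false

universe u

open CategoryTheory CategoryTheory.Limits AlgebraicGeometry IsLocalRing

namespace Groth.Agent.H14Acyc

/-- Maps of residue fields lift uniquely to local maps of strict henselizations. -/
theorem exists_lift {R S T : Type u} [CommRing R] [IsLocalRing R] [CommRing S] [IsLocalRing S] [Algebra R S]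
    [IsLocalHom (algebraMap R S)] [Hensel.IsStrictHenselization R S] [CommRing T] [HenselianLocalRing T]
    (f : R →+* T) [IsLocalHom f] (τ : ResidueField S →+* ResidueField T)
    (hτ : τ.comp (ResidueField.map (algebraMap R S)) = ResidueField.map f) :
    ∃ g : S →+* T, IsLocalHom g ∧ g.comp (algebraMap R S) = f ∧
      ∀ x : S, residue T (g x) = τ (residue S x) := by
  obtain ⟨g, ⟨h1, h2⟩, -⟩ := Hensel.IsStrictHenselization.universal T f τ hτ
  refine ⟨g, ⟨fun x hx => ?_⟩, h1, h2⟩
  by_contra hn
  have h0 : residue S x = 0 := (residue_eq_zero_iff x).2 hn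
  exact (residue_ne_zero_iff_isUnit _).2 hx ((h2 x).trans (by rw [h0, map_zero]))

theorem lift_unique {R S T : Type u} [CommRing R] [IsLocalRing R] [CommRing S] [IsLocalRing S] [Algebra R S]
    [IsLocalHom (algebraMap R S)] [Hensel.IsStrictHenselization R S] [CommRing T] [HenselianLocalRing T]
    {g g' : S →+* T} [IsLocalHom g] [IsLocalHom g'] (h : g.comp (algebraMap R S) = g'.comp (algebraMap R S))
    (hres : ResidueField.map g = ResidueField.map g') : g = g' := by
  haveI : IsLocalHom (g.comp (algebraMap R S)) := RingHom.isLocalHom_comp _ _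
  obtain ⟨g₀, -, hu⟩ := Hensel.IsStrictHenselization.universal T (g.comp (algebraMap R S)) (ResidueField.map g)
    (ResidueField.map_comp (algebraMap R S) g).symm
  refine (hu g ⟨rfl, fun x => (ResidueField.map_residue g x).symm⟩).trans (hu g' ⟨h.symm, fun x => ?_⟩).symm
  rw [hres]
  exact (ResidueField.map_residue g' x).symm

/-- Embeddings of separable closures, adjusted to agree with a given one. -/
theorem exists_factor {F E E' L : Type u} [Field F] [Field E] [Field E'] [Field L] [Algebra F E] [IsSepClosure F E]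
    [IsSepClosed E'] (i : F →+* E') (j : E' →+* L) (c : E →+* L) (hc : c.comp (algebraMap F E) = j.comp i) :
    ∃ σ : E →+* E', σ.comp (algebraMap F E) = i ∧ j.comp σ = c := by
  letI : Algebra F E' := i.toAlgebra
  letI : Algebra F L := (j.comp i).toAlgebra
  haveI : Algebra.IsSeparable F E := IsSepClosure.separable
  haveI : IsGalois F E := IsSepClosure.isGalois
  let σ₀ : E →ₐ[F] E' := IsSepClosed.lift
  let φ : E →ₐ[F] L := { j.comp σ₀.toRingHom with commutes' := fun r => congrArg j (σ₀.commutes r) }
  letI : Algebra E L := φ.toRingHom.toAlgebra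
  haveI : IsScalarTower F E L := IsScalarTower.of_algebraMap_eq fun r => (φ.commutes r).symm
  let ψ : E →ₐ[F] L := { c with commutes' := fun r => RingHom.congr_fun hc r }
  refine ⟨(σ₀.comp (ψ.restrictNormal E)).toRingHom, RingHom.ext fun r => (σ₀.comp (ψ.restrictNormal E)).commutes r,
    RingHom.ext fun x => ?_⟩
  exact ψ.restrictNormal_commutes E x

/-- An embedding of the separable closure of a subfield into a separably closed field. -/
theorem exists_embedding {F E L : Type u} [Field F] [Field E] [Field L] [Algebra F E] [IsSepClosure F E]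
    [IsSepClosed L] (i : F →+* L) : ∃ σ : E →+* L, σ.comp (algebraMap F E) = i := by
  letI : Algebra F L := i.toAlgebra
  haveI : Algebra.IsSeparable F E := IsSepClosure.separable
  exact ⟨(IsSepClosed.lift : E →ₐ[F] L).toRingHom, (IsSepClosed.lift : E →ₐ[F] L).comp_algebraMap⟩

theorem isSepClosed_residueField {R S : Type u} [CommRing R] [IsLocalRing R] [CommRing S] [IsLocalRing S]
    [Algebra R S] [IsLocalHom (algebraMap R S)] [Hensel.IsStrictHenselization R S] :
    IsSepClosed (ResidueField S) :=
  haveI := Hensel.IsStrictHenselization.isSepClosure (R := R) (S := S)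
  IsSepClosure.sep_closed (ResidueField R)

/-- The intermediate maps of strict henselizations along a composite of local maps. -/
theorem exists_factorization {A B C A' B' C' : Type u} [CommRing A] [IsLocalRing A] [CommRing B] [IsLocalRing B]
    [CommRing C] [IsLocalRing C] [CommRing A'] [IsLocalRing A'] [CommRing B'] [IsLocalRing B']
    [CommRing C'] [IsLocalRing C'] [Algebra A A'] [IsLocalHom (algebraMap A A')] [Hensel.IsStrictHenselization A A']
    [Algebra B B'] [IsLocalHom (algebraMap B B')] [Hensel.IsStrictHenselization B B']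
    [Algebra C C'] [IsLocalHom (algebraMap C C')] [Hensel.IsStrictHenselization C C']
    (p : A →+* B) (q : B →+* C) [IsLocalHom p] [IsLocalHom q] (c : A' →+* C') [IsLocalHom c]
    (hc : c.comp (algebraMap A A') = (algebraMap C C').comp (q.comp p)) :
    ∃ (a : A' →+* B') (b : B' →+* C'), IsLocalHom a ∧ IsLocalHom b ∧
      a.comp (algebraMap A A') = (algebraMap B B').comp p ∧
      b.comp (algebraMap B B') = (algebraMap C C').comp q ∧ b.comp a = c := by
  haveI := Hensel.IsStrictHenselization.henselian (R := B) (S := B')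
  haveI := Hensel.IsStrictHenselization.henselian (R := C) (S := C')
  haveI := isSepClosed_residueField (R := C) (S := C')
  haveI := isSepClosed_residueField (R := B) (S := B')
  haveI := Hensel.IsStrictHenselization.isSepClosure (R := B) (S := B')
  haveI := Hensel.IsStrictHenselization.isSepClosure (R := A) (S := A')
  haveI : IsLocalHom ((algebraMap C C').comp q) := RingHom.isLocalHom_comp _ _
  haveI : IsLocalHom ((algebraMap B B').comp p) := RingHom.isLocalHom_comp _ _
  obtain ⟨τ, hτ⟩ := exists_embedding (F := ResidueField B) (E := ResidueField B')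
    (ResidueField.map ((algebraMap C C').comp q))
  obtain ⟨b, hb, hb1, hb2⟩ := exists_lift ((algebraMap C C').comp q) τ hτ
  have key : (b.comp ((algebraMap B B').comp p)) = c.comp (algebraMap A A') := by
    rw [hc, ← RingHom.comp_assoc, hb1, RingHom.comp_assoc]
  haveI := hb
  obtain ⟨σ, hσ1, hσ2⟩ := exists_factor (F := ResidueField A) (E := ResidueField A') (E' := ResidueField B')
    (ResidueField.map ((algebraMap B B').comp p)) (ResidueField.map b) (ResidueField.map c) (by
      refine RingHom.ext fun r => ?_
      obtain ⟨r, rfl⟩ := IsLocalRing.residue_surjective r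
      exact (congrArg (residue C') (RingHom.congr_fun key r)).symm)
  obtain ⟨a, ha, ha1, ha2⟩ := exists_lift ((algebraMap B B').comp p) σ hσ1
  haveI := ha
  refine ⟨a, b, ha, hb, ha1, hb1, ?_⟩
  haveI : IsLocalHom (b.comp a) := RingHom.isLocalHom_comp _ _
  refine lift_unique (R := A) (by rw [RingHom.comp_assoc, ha1, key]) (RingHom.ext fun r => ?_)
  obtain ⟨r, rfl⟩ := IsLocalRing.residue_surjective r
  show residue C' (b (a r)) = residue C' (c r)
  rw [← ResidueField.map_residue b, ha2, ← ResidueField.map_residue c, ← hσ2]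
  rfl

/-- A map of strict henselizations over a local map. -/
theorem exists_map {B C B' C' : Type u} [CommRing B] [IsLocalRing B]
    [CommRing C] [IsLocalRing C] [CommRing B'] [IsLocalRing B'] [CommRing C'] [IsLocalRing C']
    [Algebra B B'] [IsLocalHom (algebraMap B B')] [Hensel.IsStrictHenselization B B']
    [Algebra C C'] [IsLocalHom (algebraMap C C')] [Hensel.IsStrictHenselization C C']
    (q : B →+* C) [IsLocalHom q] :
    ∃ b : B' →+* C', IsLocalHom b ∧ b.comp (algebraMap B B') = (algebraMap C C').comp q := by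
  haveI := Hensel.IsStrictHenselization.henselian (R := C) (S := C')
  haveI := isSepClosed_residueField (R := C) (S := C')
  haveI := Hensel.IsStrictHenselization.isSepClosure (R := B) (S := B')
  haveI : IsLocalHom ((algebraMap C C').comp q) := RingHom.isLocalHom_comp _ _
  obtain ⟨τ, hτ⟩ := exists_embedding (F := ResidueField B) (E := ResidueField B')
    (ResidueField.map ((algebraMap C C').comp q))
  obtain ⟨b, hb, hb1, -⟩ := exists_lift ((algebraMap C C').comp q) τ hτ
  exact ⟨b, hb, hb1⟩

variable {X Y Z : Scheme.{u}}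

/-- A property with two-out-of-three along a first map. -/
theorem onStrictLocalizations_comp_iff (g : X ⟶ Y) (h : Y ⟶ Z) (hsurj : Function.Surjective g.base)
    (P : ∀ ⦃X' Y' : Scheme.{u}⦄, (X' ⟶ Y') → Prop)
    (hP : ∀ {A B C : Scheme.{u}} (f₁ : A ⟶ B) (f₂ : B ⟶ C), P f₁ → (P f₂ ↔ P (f₁ ≫ f₂)))
    (hg : EtAcyc.OnStrictLocalizations g P) :
    EtAcyc.OnStrictLocalizations h P ↔ EtAcyc.OnStrictLocalizations (g ≫ h) P := by
  constructor
  · intro hh x RZ RX _ _ _ _ iA iL iS _ _ _ _ _ hc
    letI : Algebra (Z.presheaf.stalk (h.base (g.base x))) RZ := iA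
    haveI : IsLocalHom (algebraMap (Z.presheaf.stalk (h.base (g.base x))) RZ) := iL
    haveI : Hensel.IsStrictHenselization (Z.presheaf.stalk (h.base (g.base x))) RZ := iS
    obtain ⟨k, _, _, _, _, _, RY, _, _, _, _, _, -, hRY⟩ :=
      H9Hens.exists_isStrictHenselization_colim (Y.presheaf.stalk (g.base x))
    haveI := hRY
    have hc' : (algebraMap RZ RX).comp (algebraMap (Z.presheaf.stalk (h.base (g.base x))) RZ) =
        (algebraMap (X.presheaf.stalk x) RX).comp ((g.stalkMap x).hom.comp (h.stalkMap (g.base x)).hom) := by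
      refine hc.trans (congrArg _ ?_)
      rw [Scheme.Hom.stalkMap_comp]
      rfl
    obtain ⟨a, b, ha, hb, ha1, hb1, hab⟩ := exists_factorization (A := Z.presheaf.stalk (h.base (g.base x)))
      (A' := RZ) (B' := RY) (h.stalkMap (g.base x)).hom (g.stalkMap x).hom (algebraMap RZ RX) hc'
    letI : Algebra RZ RY := a.toAlgebra
    letI : Algebra RY RX := b.toAlgebra
    haveI : IsLocalHom (algebraMap RZ RY) := ha
    haveI : IsLocalHom (algebraMap RY RX) := hb
    have key := (hP _ _ (hg x RY RX hb1)).1 (hh (g.base x) RZ RY ha1)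
    rwa [← Spec.map_comp, ← CommRingCat.ofHom_comp, RingHom.algebraMap_toAlgebra,
      RingHom.algebraMap_toAlgebra, hab] at key
  · intro hgh y RZ RY _ _ _ _ iA iL iS _ _ _ _ _ ha
    obtain ⟨x, rfl⟩ := hsurj y
    letI : Algebra (Z.presheaf.stalk ((g ≫ h).base x)) RZ := iA
    haveI : IsLocalHom (algebraMap (Z.presheaf.stalk ((g ≫ h).base x)) RZ) := iL
    haveI : Hensel.IsStrictHenselization (Z.presheaf.stalk ((g ≫ h).base x)) RZ := iS
    obtain ⟨k, _, _, _, _, _, RX, _, _, _, _, _, -, hRX⟩ :=
      H9Hens.exists_isStrictHenselization_colim (X.presheaf.stalk x)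
    haveI := hRX
    obtain ⟨b, hb, hb1⟩ := exists_map (B' := RY) (C' := RX) (g.stalkMap x).hom
    letI : Algebra RY RX := b.toAlgebra
    haveI : IsLocalHom (algebraMap RY RX) := hb
    letI : Algebra RZ RX := (b.comp (algebraMap RZ RY)).toAlgebra
    haveI : IsLocalHom (algebraMap RZ RX) := RingHom.isLocalHom_comp b _
    refine (hP _ _ (hg x RY RX hb1)).2 ?_
    rw [← Spec.map_comp, ← CommRingCat.ofHom_comp]
    refine hgh x RZ RX ?_
    show (b.comp (algebraMap RZ RY)).comp _ = _
    rw [RingHom.comp_assoc]
    refine (congrArg b.comp ha).trans ?_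
    rw [← RingHom.comp_assoc, hb1, RingHom.comp_assoc, Scheme.Hom.stalkMap_comp]
    rfl

theorem isAcyclicN_comp_iff' {L : Set ℕ} {n : ℕ} {A B C : Scheme.{u}} (f₁ : A ⟶ B) (f₂ : B ⟶ C)
    (h₁ : EtAcyc.IsAcyclicN f₁ L n) : EtAcyc.IsAcyclicN f₂ L n ↔ EtAcyc.IsAcyclicN (f₁ ≫ f₂) L n :=
  isAcyclicN_comp_iff f₁ f₂ h₁

end Groth.Agent.H14Acyc
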