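import Groth.Agent.S8525
import Groth.Agent.H26EtPull.Basic
import Groth.Agent.H18Et.TopInvSheaf
import Groth.Agent.H18Et.StalkSets
import Groth.Prelude.Def_EtAcyc

/-!
# Composites of acyclic morphisms
-/

set_option autoImplicit false
set_option backward.isDefEq.respectTransparency false
set_option backward.isDefEq.respectTransparency.types false

universe u

open CategoryTheory CategoryTheory.Limits AlgebraicGeometry Opposite

namespace Groth.Agent.H14Acyc

open Groth.Agent.H18Et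

variable {A B C : Scheme.{u}}

/-- Inverse images of torsion sheaves are torsion. -/
theorem isLTorsion_pull (L : Set ℕ) (f : A ⟶ B) (F : EtCoh.Ab B) (hF : EtAcyc.IsLTorsion L F) :
    EtAcyc.IsLTorsion L ((EtCoh.pull f).obj F) := by
  refine (Groth.Agent.S8525.result L _).2 fun Ω _ _ ξ t => ?_
  let e := ((stalkPullIso f ξ).app F).addCommGroupIsoToAddEquiv
  obtain ⟨m, hm, h⟩ := (Groth.Agent.S8525.result L F).1 hF Ω (ξ ≫ f) (e t)
  exact ⟨m, hm, e.injective (by rw [map_nsmul, h, map_zero])⟩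

/-- The pullback of a composite, through the two pullbacks. -/
theorem bijective_HF_pullComp (a : A ⟶ B) (b : B ⟶ C) (F : EtCoh.Ab C) (q : ℕ) :
    Function.Bijective ((EtCoh.HF A q).map ((EtCore.pullComp a b).hom.app F)).hom :=
  ConcreteCategory.bijective_of_isIso ((EtCoh.HF A q).map ((EtCore.pullComp a b).hom.app F))

theorem Hpull_comp_eq (a : A ⟶ B) (b : B ⟶ C) [PreservesFiniteLimits (EtCoh.pull a)]
    [PreservesFiniteLimits (EtCoh.pull b)] [PreservesFiniteLimits (EtCoh.pull (a ≫ b))]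
    (F : EtCoh.Ab C) (q : ℕ) :
    (EtCore.Hpull a ((EtCoh.pull b).obj F) q) ∘ (EtCore.Hpull b F q) =
      ((EtCoh.HF A q).map ((EtCore.pullComp a b).hom.app F)).hom ∘ (EtCore.Hpull (a ≫ b) F q) :=
  funext fun x => H26EtPull.Hpull_comp a b F q x

theorem compN_comp {L : Set ℕ} {n : ℕ} (a : A ⟶ B) (b : B ⟶ C) (ha : EtAcyc.CompN a L n)
    (hb : EtAcyc.CompN b L n) : EtAcyc.CompN (a ≫ b) L n := by
  intro F hF _
  haveI := pull_preservesFiniteLimits a
  haveI := pull_preservesFiniteLimits b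
  have h1 := ha _ (isLTorsion_pull L b F hF)
  have h2 := hb F hF
  refine ⟨fun q hq => ?_, ?_⟩
  · refine (Function.Bijective.of_comp_iff' (bijective_HF_pullComp a b F q) _).1 ?_
    rw [← Hpull_comp_eq]
    exact (h1.1 q hq).comp (h2.1 q hq)
  · refine Function.Injective.of_comp (f := ((EtCoh.HF A (n + 1)).map ((EtCore.pullComp a b).hom.app F)).hom) ?_
    rw [← Hpull_comp_eq]
    exact h1.2.comp h2.2

theorem compN_of_comp {L : Set ℕ} {n : ℕ} (a : A ⟶ B) (b : B ⟶ C) (ha : EtAcyc.CompN a L n)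
    (hab : EtAcyc.CompN (a ≫ b) L n) : EtAcyc.CompN b L n := by
  intro F hF _
  haveI := pull_preservesFiniteLimits a
  haveI := pull_preservesFiniteLimits (a ≫ b)
  have h1 := ha _ (isLTorsion_pull L b F hF)
  have h2 := hab F hF
  refine ⟨fun q hq => ?_, ?_⟩
  · refine (Function.Bijective.of_comp_iff' (h1.1 q hq) _).1 ?_
    rw [Hpull_comp_eq]
    exact (bijective_HF_pullComp a b F q).comp (h2.1 q hq)
  · refine Function.Injective.of_comp (f := EtCore.Hpull a ((EtCoh.pull b).obj F) (n + 1)) ?_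
    rw [Hpull_comp_eq]
    exact (bijective_HF_pullComp a b F (n + 1)).1.comp h2.2

theorem bc_isEquivalence_of_isIso (e : A ⟶ B) [IsIso e] : (EtCoh.bc e).IsEquivalence :=
  Groth.Agent.H18Et.TopInvLocal.bc_isEquivalence e

theorem compN_of_isIso {L : Set ℕ} {n : ℕ} (e : A ⟶ B) [IsIso e] : EtAcyc.CompN e L n := by
  intro F _ _
  haveI := bc_isEquivalence_of_isIso e
  exact ⟨fun q _ => TopInvSheaf.bijective_Hpull e F q, (TopInvSheaf.bijective_Hpull e F (n + 1)).1⟩

/-- The units of inverse image of sheaves of sets are isomorphisms. -/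
def UnitIso (a : A ⟶ B) : Prop := ∀ F : EtDesc.Sh B, IsIso ((EtDesc.adjSh a).unit.app F)

theorem unit_comp (a : A ⟶ B) (b : B ⟶ C) (G : EtDesc.Sh C) :
    (EtDesc.adjSh (a ≫ b)).unit.app G =
      ((EtDesc.adjSh b).unit.app G ≫ (EtDesc.pushSh b).map ((EtDesc.adjSh a).unit.app ((EtDesc.pullSh b).obj G)) ≫
        (EtDesc.pushCompSh b a).hom.app ((EtDesc.pullSh a).obj ((EtDesc.pullSh b).obj G))) ≫
      (EtDesc.pushSh (a ≫ b)).map ((EtDesc.pullCompSh a b).inv.app G) := by
  have h := Adjunction.unit_leftAdjointUniq_hom (EtDesc.adjSh (a ≫ b))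
    (((EtDesc.adjSh b).comp (EtDesc.adjSh a)).ofNatIsoRight (EtDesc.pushCompSh b a))
  have h2 : (((EtDesc.adjSh b).comp (EtDesc.adjSh a)).ofNatIsoRight (EtDesc.pushCompSh b a)).unit.app G ≫
      (EtDesc.pushSh (a ≫ b)).map ((EtDesc.pullCompSh a b).inv.app G) = (EtDesc.adjSh (a ≫ b)).unit.app G := by
    rw [← congr_app h G, NatTrans.comp_app, Functor.whiskerRight_app, Category.assoc, ← Functor.map_comp]
    rw [show EtDesc.pullCompSh a b = Adjunction.leftAdjointUniq (EtDesc.adjSh (a ≫ b))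
      (((EtDesc.adjSh b).comp (EtDesc.adjSh a)).ofNatIsoRight (EtDesc.pushCompSh b a)) from rfl,
      Iso.hom_inv_id_app, CategoryTheory.Functor.map_id]
    exact Category.comp_id _
  have e := Adjunction.homEquiv_ofNatIsoRight_apply ((EtDesc.adjSh b).comp (EtDesc.adjSh a))
    (EtDesc.pushCompSh b a) (𝟙 ((EtDesc.pullSh b ⋙ EtDesc.pullSh a).obj G))
  rw [Adjunction.homEquiv_id, Adjunction.homEquiv_id, Adjunction.comp_unit_app] at e
  rw [← h2, e]
  simp only [Category.assoc]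
  rfl

theorem unitIso_comp (a : A ⟶ B) (b : B ⟶ C) (ha : UnitIso a) (hb : UnitIso b) : UnitIso (a ≫ b) := by
  intro G
  rw [unit_comp]
  haveI := hb G
  haveI := ha ((EtDesc.pullSh b).obj G)
  infer_instance

theorem unitIso_of_comp (a : A ⟶ B) (b : B ⟶ C) (ha : UnitIso a) (hab : UnitIso (a ≫ b)) : UnitIso b := by
  intro G
  haveI := ha ((EtDesc.pullSh b).obj G)
  haveI := hab G
  have h := unit_comp a b G
  haveI : IsIso (((EtDesc.adjSh b).unit.app G ≫
      (EtDesc.pushSh b).map ((EtDesc.adjSh a).unit.app ((EtDesc.pullSh b).obj G)) ≫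
      (EtDesc.pushCompSh b a).hom.app ((EtDesc.pullSh a).obj ((EtDesc.pullSh b).obj G))) ≫
      (EtDesc.pushSh (a ≫ b)).map ((EtDesc.pullCompSh a b).inv.app G)) := h ▸ inferInstance
  haveI h1 := IsIso.of_isIso_comp_right ((EtDesc.adjSh b).unit.app G ≫
      (EtDesc.pushSh b).map ((EtDesc.adjSh a).unit.app ((EtDesc.pullSh b).obj G)) ≫
      (EtDesc.pushCompSh b a).hom.app ((EtDesc.pullSh a).obj ((EtDesc.pullSh b).obj G)))
    ((EtDesc.pushSh (a ≫ b)).map ((EtDesc.pullCompSh a b).inv.app G))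
  exact IsIso.of_isIso_comp_right ((EtDesc.adjSh b).unit.app G)
    ((EtDesc.pushSh b).map ((EtDesc.adjSh a).unit.app ((EtDesc.pullSh b).obj G)) ≫
      (EtDesc.pushCompSh b a).hom.app ((EtDesc.pullSh a).obj ((EtDesc.pullSh b).obj G)))

theorem unitIso_of_isIso (e : A ⟶ B) [IsIso e] : UnitIso e := by
  intro F
  haveI := bc_isEquivalence_of_isIso e
  haveI := TopInvSheaf.isDenseSubsite_bc e
  haveI : (EtDesc.pushSh e).IsEquivalence := inferInstance
  haveI : (EtDesc.pullSh e).IsEquivalence := (EtDesc.adjSh e).isEquivalence_left_of_isEquivalence_right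
  infer_instance

section Proj

variable {X Y Z : Scheme.{u}} (g : X ⟶ Y) (h : Y ⟶ Z) (W : Z.Etale)

/-- The étale scheme over `Y` obtained from one over `Z`. -/
noncomputable def baseV : Y.Etale :=
  haveI : Etale W.hom := W.prop
  Scheme.Etale.mk (pullback.snd W.hom h)

theorem prj_comp_eq : EtAcyc.prj (g ≫ h) W =
    (pullbackLeftPullbackSndIso W.hom h g).inv ≫ EtAcyc.prj g (baseV h W) ≫ EtAcyc.prj h W := by
  rw [Iso.eq_inv_comp]
  exact pullbackLeftPullbackSndIso_hom_fst W.hom h g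

/-- Acyclicity of a composite with an acyclic first morphism. -/
theorem isAcyclicN_comp_iff {L : Set ℕ} {n : ℕ} (hg : EtAcyc.IsAcyclicN g L n) :
    EtAcyc.IsAcyclicN h L n ↔ EtAcyc.IsAcyclicN (g ≫ h) L n := by
  refine forall_congr' fun W => ?_
  rw [prj_comp_eq]
  refine ⟨fun hh => compN_comp _ _ (compN_of_isIso _) (compN_comp _ _ (hg _) hh), fun hh => ?_⟩
  refine compN_of_comp (EtAcyc.prj g (baseV h W)) _ (hg _) ?_
  exact compN_of_comp (pullbackLeftPullbackSndIso W.hom h g).inv _ (compN_of_isIso _) hh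

/-- 0-acyclicity of a composite with a 0-acyclic first morphism. -/
theorem isZeroAcyclic_comp_iff (hg : EtAcyc.IsZeroAcyclic g) :
    EtAcyc.IsZeroAcyclic h ↔ EtAcyc.IsZeroAcyclic (g ≫ h) := by
  show (∀ V, UnitIso (EtAcyc.prj h V)) ↔ ∀ V, UnitIso (EtAcyc.prj (g ≫ h) V)
  refine forall_congr' fun W => ?_
  rw [prj_comp_eq]
  refine ⟨fun hh => unitIso_comp _ _ (unitIso_of_isIso _) (unitIso_comp _ _ (hg _) hh), fun hh => ?_⟩
  refine unitIso_of_comp (EtAcyc.prj g (baseV h W)) _ (hg _) ?_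
  exact unitIso_of_comp (pullbackLeftPullbackSndIso W.hom h g).inv _ (unitIso_of_isIso _) hh

end Proj

end Groth.Agent.H14Acyc
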